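import Mathlib
import Groth.Agent.GenExtGrp.BcConst
import Groth.Agent.FppfExtLib.Basic
import Groth.Agent.PrincBundLib.Descent

/-!
# The torsor over the quotient of an fppf exact sequence
-/

set_option autoImplicit false
set_option backward.isDefEq.respectTransparency false
set_option linter.style.haveILetI false
set_option synthInstance.maxHeartbeats 200000
set_option maxHeartbeats 1000000

universe u

open CategoryTheory CategoryTheory.Limits MonoidalCategory CartesianMonoidalCategory MonObj GrpObj
  AlgebraicGeometry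

noncomputable section

namespace Groth.Agent.TwLatticeExt

open GenExtGrp

/-- The middle term is a torsor over the quotient under the kernel. -/
theorem exists_action {B : Scheme.{u}} {G E P : Over B} [GrpObj G] [GrpObj E] [GrpObj P] {u : G ⟶ E} {v : E ⟶ P}
    (hex : NonAbH1.IsExactSeq Scheme.fppfPrecoverage u v) :
    ∃ a : AlgGrp.Action (Red.bc P.hom G) (Over.mk v.left : Over P.left),
      NonAbH1.IsTorsorFor Scheme.fppfPrecoverage a := by
  haveI := hex.1
  haveI := hex.2.1
  let q := P.hom
  let X : Over P.left := Over.mk v.left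
  let φ : ∀ {T : Over P.left}, (T ⟶ X) → ((Over.map q).obj T ⟶ E) := fun {T} x =>
    Over.homMk x.left (by
      show x.left ≫ E.hom = T.hom ≫ q
      rw [← Over.w v, ← Category.assoc, ← Over.w x]
      rfl)
  let pr : ∀ (T : Over P.left), (Over.map q).obj T ⟶ P := fun T => Over.homMk T.hom rfl
  have hφv : ∀ {T : Over P.left} (x : T ⟶ X), φ x ≫ v = pr T := fun x => Over.OverMorphism.ext (Over.w x)
  have hφinj : ∀ {T : Over P.left} (x y : T ⟶ X), φ x = φ y → x = y := fun x y h =>
    Over.OverMorphism.ext (congrArg (fun m : _ ⟶ E => m.left) h)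
  have hφcomp : ∀ {T T' : Over P.left} (h : T' ⟶ T) (x : T ⟶ X), φ (h ≫ x) = (Over.map q).map h ≫ φ x :=
    fun h x => Over.OverMorphism.ext rfl
  let J : ∀ {T : Over P.left}, (T ⟶ (Red.bc q G)) → ((Over.map q).obj T ⟶ G) := fun {T} g =>
    ((Over.mapPullbackAdj q).homEquiv T G).symm g
  have hJmul : ∀ {T : Over P.left} (g g' : T ⟶ (Red.bc q G)), J (g * g') = J g * J g' := fun g g' => adj_mul q g g'
  have hJone : ∀ {T : Over P.left}, J (1 : T ⟶ (Red.bc q G)) = 1 := fun {T} => by
    have h := hJmul (1 : T ⟶ (Red.bc q G)) 1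
    rw [_root_.one_mul] at h
    exact mul_eq_left.mp h.symm
  have hJcomp : ∀ {T T' : Over P.left} (h : T' ⟶ T) (g : T ⟶ (Red.bc q G)), J (h ≫ g) = (Over.map q).map h ≫ J g :=
    fun h g => Adjunction.homEquiv_naturality_left_symm _ _ _
  let W : Over P.left := (Red.bc q G) ⊗ X
  let act₀ : (Over.map q).obj W ⟶ E := (J (fst (Red.bc q G) X) ≫ u) * φ (snd (Red.bc q G) X)
  have hact₀ : act₀ ≫ v = pr W := by
    simp only [act₀, MonObj.mul_comp, Category.assoc, hex.2.2.1, MonObj.comp_one, _root_.one_mul, hφv]; rfl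
  let act : W ⟶ X := Over.homMk act₀.left (congrArg (fun m : _ ⟶ P => m.left) hact₀)
  have hact : ∀ {T : Over P.left} (g : T ⟶ (Red.bc q G)) (x : T ⟶ X),
      φ (lift g x ≫ act) = (J g ≫ u) * φ x := fun g x => by
    rw [hφcomp, show φ act = act₀ from Over.OverMorphism.ext rfl, MonObj.comp_mul, ← Category.assoc,
      ← hJcomp, lift_fst, ← hφcomp, lift_snd]
  let a : AlgGrp.Action (Red.bc q G) X :=
    { act := act
      one_act := by
        apply hφinj
        have h1 : (η[(Red.bc q G)] ▷ X) = lift (1 : _ ⟶ (Red.bc q G)) (snd (𝟙_ (Over P.left)) X) := by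
          apply CartesianMonoidalCategory.hom_ext
          · rw [whiskerRight_fst, lift_fst, Hom.one_def]
            congr 1
          · rw [whiskerRight_snd, lift_snd]
        rw [h1, hact, hJone, MonObj.one_comp, _root_.one_mul, leftUnitor_hom]
      mul_act := by
        apply hφinj
        have h1 : (μ[(Red.bc q G)] ▷ X) = lift ((fst ((Red.bc q G) ⊗ (Red.bc q G)) X ≫ fst (Red.bc q G) (Red.bc q G)) * (fst ((Red.bc q G) ⊗ (Red.bc q G)) X ≫ snd (Red.bc q G) (Red.bc q G)))
            (snd ((Red.bc q G) ⊗ (Red.bc q G)) X) := by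
          apply CartesianMonoidalCategory.hom_ext
          · rw [whiskerRight_fst, lift_fst, Hom.mul_def, ← comp_lift, lift_fst_snd, Category.comp_id]
          · rw [whiskerRight_snd, lift_snd]
        have h2 : (α_ (Red.bc q G) (Red.bc q G) X).hom ≫ ((Red.bc q G) ◁ act) = lift (fst ((Red.bc q G) ⊗ (Red.bc q G)) X ≫ fst (Red.bc q G) (Red.bc q G))
            (lift (fst ((Red.bc q G) ⊗ (Red.bc q G)) X ≫ snd (Red.bc q G) (Red.bc q G)) (snd ((Red.bc q G) ⊗ (Red.bc q G)) X) ≫ act) := by
          apply CartesianMonoidalCategory.hom_ext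
          · simp
          · rw [lift_snd, Category.assoc, whiskerLeft_snd, ← Category.assoc]
            congr 1
            apply CartesianMonoidalCategory.hom_ext <;> simp
        rw [h1, ← Category.assoc (α_ (Red.bc q G) (Red.bc q G) X).hom, h2, hact, hact, hact, hJmul, MonObj.mul_comp, _root_.mul_assoc] }
  have hps : NonAbH1.IsPseudoTorsorSch a := by
    refine (Groth.Agent.PrincBundLib.isIso_lift_snd_iff a.act).mpr fun T x y => ?_
    obtain ⟨c, hc⟩ := Groth.Agent.FppfExtLib.exists_of_comp_eq_one hex (φ x * (φ y)⁻¹)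
      (by rw [MonObj.mul_comp, GrpObj.inv_comp, hφv, hφv, mul_inv_cancel])
    refine ⟨(Over.mapPullbackAdj q).homEquiv T G c, ?_, fun g hg => ?_⟩
    · apply hφinj
      show φ (lift _ y ≫ act) = _
      rw [hact, show J ((Over.mapPullbackAdj q).homEquiv T G c) = c from Equiv.symm_apply_apply _ _, hc,
        inv_mul_cancel_right]
    · have h := congrArg φ hg
      replace h : (J g ≫ u) * φ y = φ x := (hact g y).symm.trans h
      have : J g = c := Groth.Agent.FppfExtLib.eq_of_comp_eq hex (by rw [hc, eq_mul_inv_iff_mul_eq]; exact h)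
      rw [← this]
      exact ((Over.mapPullbackAdj q).homEquiv T G).apply_symm_apply g |>.symm
  exact ⟨a, hps, hex.2.2.2.2⟩

end Groth.Agent.TwLatticeExt
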