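import Groth.Agent.TwLatticeExt.Local
import Groth.Agent.SchDesc.Cover
import Mathlib.CategoryTheory.Sites.SubcanonicalOver

/-!
# Extensions of smooth groups with connected fibres by twisted lattices split
-/

set_option autoImplicit false
set_option backward.isDefEq.respectTransparency false
set_option linter.style.haveILetI false
set_option synthInstance.maxHeartbeats 200000
set_option maxHeartbeats 1000000

universe u

open CategoryTheory CategoryTheory.Limits MonoidalCategory CartesianMonoidalCategory MonObj GrpObj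
  AlgebraicGeometry

noncomputable section

namespace Groth.Agent.TwLatticeExt

variable {S : Scheme.{u}} {P E M : Over S} [GrpObj P] [GrpObj E] [GrpObj M] {u : M ⟶ E} {v : E ⟶ P}

omit [GrpObj P] [GrpObj E] in
theorem etale_separated (hM : TwC.Locally S TwC.Topology.fpqc (fun S' f =>
      ∃ (r : ℕ) (e : Red.bc f M ≅ TwC.const S' (Multiplicative (Fin r → ℤ))),
        TwC.IsConstGrp (Multiplicative (Fin r → ℤ)) (Red.bc f M) e)) :
    AlgebraicGeometry.Etale M.hom ∧ IsSeparated M.hom := by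
  obtain ⟨S', f, hf, hs, hW, hloc⟩ := hM
  have h : TwC.IsTwConst .fpqc M := ⟨S', f, hf, hs, hW, fun s' => by
    obtain ⟨U, hU, r, e, -⟩ := hloc s'
    exact ⟨U, hU, Lat.{u} r, ⟨e ≪≫ (exists_ulift_const _ _).choose⟩⟩⟩
  exact ⟨TwConst.etale_of_isTwConst M h, TwConst.isSeparated_of_isTwConst M h⟩

/-- Normalised lifts exist on an fpqc covering of the base. -/
theorem liftable_mem [Smooth P.hom] [QuasiCompact P.hom] [QuasiSeparated P.hom] [GeometricallyConnected P.hom]
    (hM : TwC.Locally S TwC.Topology.fpqc (fun S' f =>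
      ∃ (r : ℕ) (e : Red.bc f M ≅ TwC.const S' (Multiplicative (Fin r → ℤ))),
        TwC.IsConstGrp (Multiplicative (Fin r → ℤ)) (Red.bc f M) e))
    (hex : NonAbH1.IsExactSeq Scheme.fppfPrecoverage u v) :
    ∃ R ∈ Scheme.fpqcTopology S, ∀ ⦃T : Scheme.{u}⦄ (g : T ⟶ S), R.arrows g → ∃ l, IsLift v (Over.mk g) l := by
  obtain ⟨S', f, hf, hs, hW, hloc⟩ := hM
  let R : Sieve S :=
    { arrows := fun T g => ∃ l, IsLift v (Over.mk g) l
      downward_closed := by
        rintro T T' g ⟨l, hl⟩ k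
        exact ⟨_, isLift_restrict (Over.homMk k rfl : Over.mk (k ≫ g) ⟶ Over.mk g) hl⟩ }
  refine ⟨R, ?_, fun T g hg => hg⟩
  have hqc : QuasiCompactCover (PreZeroHypercover.singleton.{0} f) := ⟨fun {U} hU => by
    obtain ⟨W, hWc, hWU⟩ := hW U hU
    exact .of_finite (κ := Unit) (fun _ => ⟨⟩) (fun _ => W) (fun _ => hWc) ((Set.iUnion_const _).trans hWU)⟩
  haveI : Flat f := hf
  haveI : Surjective f := hs
  have hfmem : Sieve.generate (Presieve.singleton f) ∈ Scheme.fpqcTopology S := by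
    refine Precoverage.generate_mem_toGrothendieck ⟨?_, ?_⟩
    · rw [← PreZeroHypercover.presieve₀_singleton, Scheme.presieve₀_mem_qcPrecoverage_iff]
      exact hqc
    · rw [← Presieve.ofArrows_pUnit.{0}]
      exact (f.cover (P := @Flat) inferInstance).mem₀
  refine (Scheme.fpqcTopology).transitive hfmem R ?_
  rintro T g ⟨Y, a, b, hb, rfl⟩
  cases hb
  rw [Sieve.pullback_comp]
  refine (Scheme.fpqcTopology).pullback_stable a ?_
  refine (Scheme.zariskiTopology_le_fpqcTopology S') ?_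
  choose U hU r e he using hloc
  let 𝒰 := S'.openCoverOfIsOpenCover U (by
    rw [TopologicalSpace.IsOpenCover, eq_top_iff]
    exact fun s _ => TopologicalSpace.Opens.mem_iSup.mpr ⟨s, hU s⟩)
  refine (Scheme.zariskiTopology).superset_covering ?_ (Precoverage.generate_mem_toGrothendieck 𝒰.mem₀)
  rw [Sieve.generate_le_iff]
  rintro _ _ ⟨s⟩
  obtain ⟨e', he'⟩ := exists_isConstGrp_ulift (e s) (he s)
  exact exists_isLift hex (Over.mk ((U s).ι ≫ f)) (lat_torsionFree (r s)) e' he'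

theorem exists_section [AlgebraicGeometry.Etale M.hom] [IsSeparated M.hom] [Smooth P.hom]
    [GeometricallyConnected P.hom] (hex : NonAbH1.IsExactSeq Scheme.fppfPrecoverage u v)
    {R₀ : Sieve S} (hR₀ : R₀ ∈ Scheme.fpqcTopology S)
    (hlift : ∀ ⦃T : Scheme.{u}⦄ (g : T ⟶ S), R₀.arrows g → ∃ l, IsLift v (Over.mk g) l) :
    ∃ s : P ⟶ E, IsMonHom s ∧ s ≫ v = 𝟙 P := by
  haveI := hex.1
  haveI := hex.2.1
  let J := Scheme.fpqcTopology.over S
  let R : Sieve P :=
    { arrows := fun W _ => ∃ l, IsLift v W l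
      downward_closed := by
        rintro W W' h ⟨l, hl⟩ k
        exact ⟨_, isLift_restrict k hl⟩ }
  have hR : R ∈ J P := by
    rw [GrothendieckTopology.mem_over_iff]
    refine Scheme.fpqcTopology.superset_covering (fun T h hh => ?_) (Scheme.fpqcTopology.pullback_stable P.hom hR₀)
    rw [Sieve.overEquiv_iff]
    exact hlift _ hh
  let fam : Presieve.FamilyOfElements (yoneda.obj E) R.arrows := fun W h hh => lift (𝟙 W) h ≫ hh.choose
  have hcomp : fam.Compatible := by
    rw [Presieve.compatible_iff_sieveCompatible]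
    intro W W' h k hh
    show lift (𝟙 W') (k ≫ h) ≫ _ = k ≫ lift (𝟙 W) h ≫ _
    rw [isLift_unique hex (R.downward_closed hh k).choose_spec (isLift_restrict k hh.choose_spec),
      ← Category.assoc, ← Category.assoc k]
    congr 1
    apply CartesianMonoidalCategory.hom_ext
    · simp
    · simp
  have hsheaf := fun X : Over S =>
    (GrothendieckTopology.Subcanonical.isSheaf_of_isRepresentable (J := J) (yoneda.obj X))
  obtain ⟨s, hs, -⟩ := hsheaf E R hR fam hcomp
  replace hs : ∀ ⦃W : Over S⦄ (h : W ⟶ P) (hh : R.arrows h), h ≫ s = lift (𝟙 W) h ≫ hh.choose :=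
    fun W h hh => hs h hh
  have hsv : s ≫ v = 𝟙 P := by
    refine (hsheaf P R hR).isSeparatedFor.ext fun W h hh => ?_
    show h ≫ s ≫ v = h ≫ 𝟙 P
    rw [← Category.assoc, hs h hh, Category.assoc, hh.choose_spec.1, lift_snd, Category.comp_id]
  have hs1 : (η : 𝟙_ (Over S) ⟶ P) ≫ s = η := by
    refine (hsheaf E (R.pullback η) (J.pullback_stable η hR)).isSeparatedFor.ext fun W h hh => ?_
    show h ≫ η ≫ s = h ≫ (η : 𝟙_ (Over S) ⟶ E)
    have h1 : h ≫ (η : 𝟙_ (Over S) ⟶ P) = 1 := by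
      rw [Hom.one_def]; exact congrArg (· ≫ (η : 𝟙_ (Over S) ⟶ P)) (toUnit_unique _ _)
    have h2 : h ≫ (η : 𝟙_ (Over S) ⟶ E) = 1 := by
      rw [Hom.one_def]; exact congrArg (· ≫ (η : 𝟙_ (Over S) ⟶ E)) (toUnit_unique _ _)
    rw [h2, ← Category.assoc, hs _ hh]
    refine Eq.trans (congrArg (fun z => lift (𝟙 W) z ≫ hh.choose) h1) ?_
    exact hh.choose_spec.2
  -- the section is a homomorphism
  have hone : (1 : 𝟙_ (Over S) ⟶ P) ≫ s = 1 := by
    rw [Hom.one_def, Category.assoc, hs1, Hom.one_def]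
  let a : P ⊗ P ⟶ E := μ ≫ s
  let b : P ⊗ P ⟶ E := (fst P P ≫ s) * (snd P P ≫ s)
  have hab : a ≫ v = b ≫ v := by
    simp only [a, b, Category.assoc, hsv, MonObj.mul_comp, Category.comp_id]
    rw [Hom.mul_def, lift_fst_snd, Category.id_comp]
  obtain ⟨c, hc⟩ := FppfExtLib.exists_of_comp_eq_one hex (a * b⁻¹)
    (by rw [MonObj.mul_comp, GrpObj.inv_comp, hab, mul_inv_cancel])
  have h1 : (1 : 𝟙_ (Over S) ⟶ P ⊗ P) ≫ c = 1 := by
    refine FppfExtLib.eq_of_comp_eq hex ?_
    have hx : (1 : 𝟙_ (Over S) ⟶ P ⊗ P) ≫ (μ : P ⊗ P ⟶ P) = 1 := by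
      rw [show (μ : P ⊗ P ⟶ P) = fst P P * snd P P by rw [Hom.mul_def, lift_fst_snd, Category.id_comp]]
      rw [MonObj.comp_mul, MonObj.one_comp, MonObj.one_comp, _root_.one_mul]
    rw [Category.assoc, hc, MonObj.comp_mul, GrpObj.comp_inv, MonObj.one_comp u]
    simp only [a, b, MonObj.comp_mul, ← Category.assoc, hx, hone, MonObj.one_comp, _root_.one_mul, inv_one]
  have hc1 : c = 1 := by
    haveI : GeometricallyConnected (P ⊗ P).hom := by
      show GeometricallyConnected (pullback.fst P.hom P.hom ≫ P.hom)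
      haveI : UniversallyOpen P.hom := inferInstance
      exact GeometricallyConnected.comp _ _
    refine eq_of_section (P ⊗ P).hom (1 : 𝟙_ (Over S) ⟶ P ⊗ P).left (Over.w _) (fun x => ?_) c 1 ?_
    · exact ((P ⊗ P).hom.isConnected_preimage_singleton x).isPreconnected
    · refine congrArg (fun m : 𝟙_ (Over S) ⟶ M => m.left) (?_ : _ ≫ c = _ ≫ 1)
      rw [h1, MonObj.comp_one]
  have hmul : a = b := by
    rw [hc1, MonObj.one_comp, eq_comm, mul_inv_eq_one] at hc
    exact hc
  refine ⟨s, ⟨hs1, ?_⟩, hsv⟩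
  show a = (s ⊗ₘ s) ≫ μ
  rw [hmul]
  show lift (fst P P ≫ s) (snd P P ≫ s) ≫ μ = _
  congr 1

/-- The theorem. -/
theorem main [Smooth P.hom] [QuasiCompact P.hom] [QuasiSeparated P.hom] [GeometricallyConnected P.hom]
    (hM : TwC.Locally S TwC.Topology.fpqc (fun S' f =>
      ∃ (r : ℕ) (e : Red.bc f M ≅ TwC.const S' (Multiplicative (Fin r → ℤ))),
        TwC.IsConstGrp (Multiplicative (Fin r → ℤ)) (Red.bc f M) e))
    (hex : NonAbH1.IsExactSeq Scheme.fppfPrecoverage u v) :
    (∀ φ : P ⟶ M, IsMonHom φ → φ = 1) ∧ ∃ s : P ⟶ E, IsMonHom s ∧ s ≫ v = 𝟙 P := by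
  obtain ⟨he, hsep⟩ := etale_separated hM
  haveI := he
  haveI := hsep
  refine ⟨fun φ hφ => ?_, ?_⟩
  · haveI := hφ
    refine eq_of_section P.hom (η : 𝟙_ (Over S) ⟶ P).left (Over.w _)
      (fun x => (P.hom.isConnected_preimage_singleton x).isPreconnected) φ 1 ?_
    refine congrArg (fun m : 𝟙_ (Over S) ⟶ M => m.left) (?_ : η ≫ φ = η ≫ 1)
    rw [IsMonHom.one_hom, MonObj.comp_one, Hom.one_def]
    rw [toUnit_unique (toUnit (𝟙_ (Over S))) (𝟙 _), Category.id_comp]
  · obtain ⟨R₀, hR₀, hlift⟩ := liftable_mem hM hex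
    exact exists_section hex hR₀ hlift

end Groth.Agent.TwLatticeExt
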