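import Groth.Agent.GenExtGrp.BcConst
import Groth.Agent.FppfExtLib.Basic

/-!
# Base change of fppf exact sequences of group schemes
-/

set_option autoImplicit false
set_option backward.isDefEq.respectTransparency false
set_option linter.style.haveILetI false
set_option synthInstance.maxHeartbeats 200000

universe u

open CategoryTheory CategoryTheory.Limits MonoidalCategory CartesianMonoidalCategory MonObj GrpObj
  AlgebraicGeometry

noncomputable section

namespace Groth.Agent.TwLatticeExt

variable {S S' : Scheme.{u}}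

theorem isPullback_of_kernel {M E P : Over S} [GrpObj M] [GrpObj E] [GrpObj P] (u : M ⟶ E) [Mono u] (v : E ⟶ P) [IsMonHom v]
    (huv : u ≫ v = 1) (h : ∀ {X : Over S} (k : X ⟶ E), k ≫ v = 1 → ∃ c : X ⟶ M, c ≫ u = k) :
    IsPullback (fst E M) ((E ◁ u) ≫ μ[E]) v v := by
  rw [FppfExtLib.whiskerLeft_mul]
  have hw : fst E M ≫ v = (fst E M * (snd E M ≫ u)) ≫ v := by
    rw [MonObj.mul_comp, Category.assoc, huv, MonObj.comp_one, _root_.mul_one]
  refine ⟨⟨hw⟩, ⟨PullbackCone.isLimitAux' _ fun s => ?_⟩⟩
  have hs : (s.fst⁻¹ * s.snd) ≫ v = 1 := by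
    rw [MonObj.mul_comp, GrpObj.inv_comp, s.condition, inv_mul_cancel]
  refine ⟨lift s.fst (h _ hs).choose, lift_fst _ _, ?_, fun {m} h₁ h₂ => ?_⟩
  · show lift s.fst _ ≫ (fst E M * (snd E M ≫ u)) = s.snd
    rw [MonObj.comp_mul, lift_fst, lift_snd_assoc, (h _ hs).choose_spec, mul_inv_cancel_left]
  · change m ≫ fst E M = s.fst at h₁
    change m ≫ (fst E M * (snd E M ≫ u)) = s.snd at h₂
    apply CartesianMonoidalCategory.hom_ext
    · rw [lift_fst, h₁]
    · rw [lift_snd, ← cancel_mono u, (h _ hs).choose_spec, ← h₂, MonObj.comp_mul, h₁, inv_mul_cancel_left,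
        Category.assoc]

/-- The base change of an fppf exact sequence is fppf exact. -/
theorem isExactSeq_bc (f : S' ⟶ S) {M E P : Over S} [GrpObj M] [GrpObj E] [GrpObj P] {u : M ⟶ E} {v : E ⟶ P}
    (hex : NonAbH1.IsExactSeq Scheme.fppfPrecoverage u v) :
    NonAbH1.IsExactSeq Scheme.fppfPrecoverage ((Over.pullback f).map u : Red.bc f M ⟶ Red.bc f E)
      ((Over.pullback f).map v : Red.bc f E ⟶ Red.bc f P) := by
  haveI := hex.1
  haveI := hex.2.1
  let F := Over.pullback f
  let adj := Over.mapPullbackAdj f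
  haveI : Mono u := ⟨fun a b h => FppfExtLib.eq_of_comp_eq hex h⟩
  haveI : Mono (F.map u) := inferInstance
  have Jone : ∀ {H : Over S} [GrpObj H] {T : Over S'},
      (adj.homEquiv T H).symm (1 : T ⟶ Red.bc f H) = 1 := fun {H} _ {T} => by
    have h := GenExtGrp.adj_mul f (1 : T ⟶ Red.bc f H) 1
    rw [_root_.one_mul] at h
    exact mul_eq_left.mp h.symm
  have huv : (F.map u : Red.bc f M ⟶ Red.bc f E) ≫ F.map v = (1 : Red.bc f M ⟶ Red.bc f P) := by
    apply (adj.homEquiv _ _).symm.injective
    rw [Jone, ← F.map_comp, hex.2.2.1, ← Category.id_comp (F.map (1 : M ⟶ P)),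
      Adjunction.homEquiv_naturality_right_symm, MonObj.comp_one]
  refine ⟨inferInstance, inferInstance, huv, isPullback_of_kernel _ _ huv fun {X} k hk => ?_, ?_⟩
  · have hk' : (adj.homEquiv X E).symm k ≫ v = 1 := by
      rw [← Adjunction.homEquiv_naturality_right_symm, ← Jone]
      exact congrArg _ hk
    obtain ⟨c, hc⟩ := FppfExtLib.exists_of_comp_eq_one hex _ hk'
    refine ⟨adj.homEquiv X M c, ?_⟩
    apply (adj.homEquiv _ _).symm.injective
    rw [Adjunction.homEquiv_naturality_right_symm, Equiv.symm_apply_apply, hc]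
  · obtain ⟨R, hR, hsec⟩ := hex.2.2.2.2
    let q : (Red.bc f P).left ⟶ P.left := pullback.fst P.hom f
    refine ⟨R.pullbackArrows q, Precoverage.pullbackArrows_mem q hR, ?_⟩
    rintro T _ ⟨T', g, hg⟩
    obtain ⟨s, hs⟩ := hsec g hg
    replace hs : s ≫ v.left = g := hs
    let t : pullback g q ⟶ (Red.bc f E).left :=
      pullback.lift (pullback.fst g q ≫ s) (pullback.snd g q ≫ pullback.snd P.hom f) (by
        rw [Category.assoc, Category.assoc, ← Over.w v, reassoc_of% hs, ← pullback.condition,
          pullback.condition_assoc])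
    refine ⟨t, ?_⟩
    show t ≫ (F.map v).left = pullback.snd g q
    apply pullback.hom_ext
    · show (t ≫ pullback.lift _ _ _) ≫ pullback.fst P.hom f = pullback.snd g q ≫ q
      rw [Category.assoc, pullback.lift_fst, pullback.lift_fst_assoc, Category.assoc, hs, pullback.condition]
    · show (t ≫ pullback.lift _ _ _) ≫ pullback.snd P.hom f = pullback.snd g q ≫ pullback.snd P.hom f
      rw [Category.assoc, pullback.lift_snd, pullback.lift_snd]

end Groth.Agent.TwLatticeExt
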