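import Mathlib
import Groth.Agent.GenExtGrp.BcConst
import Groth.Agent.TwConst.Valuative

/-!
# Rigidity of morphisms to etale separated schemes; twisted lattices
-/

set_option autoImplicit false
set_option backward.isDefEq.respectTransparency false
set_option linter.style.haveILetI false

universe u

open CategoryTheory CategoryTheory.Limits MonoidalCategory CartesianMonoidalCategory MonObj GrpObj
  AlgebraicGeometry

noncomputable section

namespace Groth.Agent.TwLatticeExt

/-- Two maps to an etale separated scheme agreeing on a section of a family with connected fibres are equal. -/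
theorem eq_of_section {S : Scheme.{u}} {Q M : Over S} [AlgebraicGeometry.Etale M.hom] [IsSeparated M.hom]
    {T : Scheme.{u}} (t : Q.left ⟶ T) (σ : T ⟶ Q.left) (hσ : σ ≫ t = 𝟙 T)
    (hconn : ∀ x : T, _root_.IsPreconnected (t ⁻¹' {x})) (a b : Q ⟶ M) (hab : σ ≫ a.left = σ ≫ b.left) : a = b := by
  let d := pullback.diagonal M.hom
  let ab : Q.left ⟶ pullback M.hom M.hom := pullback.lift a.left b.left ((Over.w a).trans (Over.w b).symm)
  haveI : IsOpenImmersion d := inferInstance
  haveI : IsClosedImmersion d := inferInstance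
  let κ := pullback.fst ab d
  haveI : IsOpenImmersion κ := inferInstance
  haveI : IsClosedImmersion κ := inferInstance
  have hclopen : IsClopen (Set.range κ) := ⟨κ.isClosedEmbedding.isClosed_range, κ.isOpenEmbedding.isOpen_range⟩
  let k : T ⟶ pullback ab d := pullback.lift σ (σ ≫ a.left) (by
    apply pullback.hom_ext
    · simp [ab, d]
    · simp [ab, d, hab])
  have hk : k ≫ κ = σ := pullback.lift_fst _ _ _
  haveI : Surjective κ := ⟨fun q => by
    refine (hconn (t q)).subset_isClopen hclopen ⟨σ (t q), ?_, k (t q), ?_⟩ (rfl : t q = t q)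
    · show t (σ (t q)) = t q
      rw [← Scheme.Hom.comp_apply, hσ]; rfl
    · rw [← Scheme.Hom.comp_apply, hk]⟩
  haveI : IsIso κ := (isIso_iff_isOpenImmersion_and_surjective _).mpr ⟨inferInstance, inferInstance⟩
  apply Over.OverMorphism.ext
  rw [← cancel_epi κ]
  have h := pullback.condition (f := ab) (g := d)
  have h₁ := congrArg (· ≫ pullback.fst M.hom M.hom) h
  have h₂ := congrArg (· ≫ pullback.snd M.hom M.hom) h
  simp only [ab, d, Category.assoc, pullback.lift_fst, pullback.lift_snd, pullback.diagonal_fst,
    pullback.diagonal_snd, Category.comp_id] at h₁ h₂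
  exact h₁.trans h₂.symm

/-- Constant schemes of small index types, with index type raised to the universe of the base. -/
theorem exists_ulift_const (S : Scheme.{u}) (M : Type) :
    ∃ c : TwC.const S M ≅ TwC.const S (ULift.{u} M), ∀ z : ULift.{u} M, TwC.pt S _ z ≫ c.inv = TwC.pt S M z.down := by
  refine ⟨{ hom := TwC.constMap S ULift.up, inv := TwC.constMap S ULift.down
            hom_inv_id := Over.OverMorphism.ext (Sigma.hom_ext _ _ fun m => by simp [TwC.constMap])
            inv_hom_id := Over.OverMorphism.ext (Sigma.hom_ext _ _ fun m => by simp [TwC.constMap]) }, fun z => ?_⟩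
  exact Over.OverMorphism.ext (Sigma.ι_desc _ _)

/-- The lattice of rank `r` in the universe of the base. -/
abbrev Lat (r : ℕ) : Type u := ULift.{u} (Multiplicative (Fin r → ℤ))

theorem lat_torsionFree (r : ℕ) (z : Lat.{u} r) (hz : IsOfFinOrder z) : z = 1 := by
  obtain ⟨n, hn, h⟩ := hz.exists_pow_eq_one
  refine ULift.ext _ _ (Multiplicative.toAdd.injective (funext fun i => ?_))
  have h' : n • (Multiplicative.toAdd z.down) i = 0 :=
    congrArg (fun w : Lat.{u} r => (Multiplicative.toAdd w.down) i) h
  exact (smul_eq_zero.mp h').resolve_left hn.ne'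

theorem exists_isConstGrp_ulift {S : Scheme.{u}} {r : ℕ} {G : Over S} [GrpObj G]
    (e : G ≅ TwC.const S (Multiplicative (Fin r → ℤ))) (he : TwC.IsConstGrp (Multiplicative (Fin r → ℤ)) G e) :
    ∃ e' : G ≅ TwC.const S (Lat.{u} r), TwC.IsConstGrp (Lat.{u} r) G e' := by
  obtain ⟨c, hc⟩ := exists_ulift_const S (Multiplicative (Fin r → ℤ))
  refine ⟨e ≪≫ c, fun m n => ?_⟩
  simp only [Iso.trans_inv, ← Category.assoc, hc]
  exact he m.down n.down

end Groth.Agent.TwLatticeExt
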