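import Groth.Agent.TwLatticeExt.BaseChange
import Groth.Agent.TwLatticeExt.Action
import Groth.Agent.TwLatticeExt.Rigid
import Groth.Agent.ConstTorsTriv.Basic
import Groth.Agent.FppfExtLib.Split

/-!
# Lifts of the identity over bases where the lattice is constant
-/

set_option autoImplicit false
set_option backward.isDefEq.respectTransparency false
set_option linter.style.haveILetI false
set_option synthInstance.maxHeartbeats 200000
set_option maxHeartbeats 1000000

universe u

open CategoryTheory CategoryTheory.Limits MonoidalCategory CartesianMonoidalCategory MonObj GrpObj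
  AlgebraicGeometry

noncomputable section

namespace Groth.Agent.TwLatticeExt

variable {S : Scheme.{u}} {P E M : Over S} [GrpObj P] [GrpObj E] [GrpObj M] {u : M ⟶ E} {v : E ⟶ P}

/-- The unit section of `T ⊗ P`. -/
abbrev unitSec (T P : Over S) [GrpObj P] : T ⟶ T ⊗ P := lift (𝟙 T) (1 : T ⟶ P)

/-- Maps from `T ⊗ P` to an etale separated scheme are determined by their restriction to the unit section. -/
theorem prod_eq [AlgebraicGeometry.Etale M.hom] [IsSeparated M.hom] [GeometricallyConnected P.hom]
    {T : Over S} (a b : T ⊗ P ⟶ M) (h : unitSec T P ≫ a = unitSec T P ≫ b) : a = b := by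
  refine eq_of_section (fst T P).left (unitSec T P).left ?_ (fun x => ?_) a b
    (congrArg (fun m : T ⟶ M => m.left) h)
  · rw [← Over.comp_left, lift_fst]; rfl
  · haveI : GeometricallyConnected (fst T P).left :=
      inferInstanceAs (GeometricallyConnected (pullback.fst T.hom P.hom))
    exact ((fst T P).left.isConnected_preimage_singleton x).isPreconnected

/-- A normalised lift over `T`. -/
def IsLift (v : E ⟶ P) (T : Over S) (l : T ⊗ P ⟶ E) : Prop :=
  l ≫ v = snd T P ∧ unitSec T P ≫ l = 1

theorem isLift_unique (hex : NonAbH1.IsExactSeq Scheme.fppfPrecoverage u v) [AlgebraicGeometry.Etale M.hom]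
    [IsSeparated M.hom] [GeometricallyConnected P.hom] {T : Over S} {a b : T ⊗ P ⟶ E}
    (ha : IsLift v T a) (hb : IsLift v T b) : a = b := by
  haveI := hex.1
  haveI := hex.2.1
  obtain ⟨c, hc⟩ := FppfExtLib.exists_of_comp_eq_one hex (a * b⁻¹)
    (by rw [MonObj.mul_comp, GrpObj.inv_comp, ha.1, hb.1, mul_inv_cancel])
  have h1 : unitSec T P ≫ c = 1 := by
    refine FppfExtLib.eq_of_comp_eq hex ?_
    rw [Category.assoc, hc, MonObj.comp_mul, GrpObj.comp_inv, ha.2, hb.2, mul_inv_cancel, MonObj.one_comp]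
  have h2 : c = 1 := prod_eq c 1 (by rw [h1, MonObj.comp_one])
  rw [h2, MonObj.one_comp, eq_comm, mul_inv_eq_one] at hc
  exact hc

theorem isLift_restrict {T T' : Over S} (g : T' ⟶ T) {l : T ⊗ P ⟶ E} (hl : IsLift v T l) :
    IsLift v T' ((g ▷ P) ≫ l) := by
  refine ⟨by rw [Category.assoc, hl.1, whiskerRight_snd], ?_⟩
  have : unitSec T' P ≫ (g ▷ P) = g ≫ unitSec T P := by
    apply CartesianMonoidalCategory.hom_ext
    · simp [unitSec]
    · simp [unitSec, MonObj.comp_one]
  rw [← Category.assoc, this, Category.assoc, hl.2, MonObj.comp_one]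

theorem exists_isLift_of_exists {T : Over S} [IsMonHom v] (l : T ⊗ P ⟶ E) (hl : l ≫ v = snd T P) :
    ∃ l', IsLift v T l' := by
  refine ⟨l * (fst T P ≫ unitSec T P ≫ l)⁻¹, ?_, ?_⟩
  · rw [MonObj.mul_comp, GrpObj.inv_comp, Category.assoc, Category.assoc, hl, lift_snd, MonObj.comp_one,
      inv_one, _root_.mul_one]
  · rw [MonObj.comp_mul, GrpObj.comp_inv, ← Category.assoc _ (fst T P), lift_fst, Category.id_comp, mul_inv_cancel]

/-- Over a base on which the lattice is constant there is a normalised lift. -/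
theorem exists_isLift [Smooth P.hom] [QuasiCompact P.hom] [QuasiSeparated P.hom] [GeometricallyConnected P.hom]
    (hex : NonAbH1.IsExactSeq Scheme.fppfPrecoverage u v) (T : Over S) {Z : Type u} [Group Z]
    (hZ : ∀ z : Z, IsOfFinOrder z → z = 1) (eM : Red.bc T.hom M ≅ TwC.const T.left Z)
    (hM : TwC.IsConstGrp Z (Red.bc T.hom M) eM) : ∃ l, IsLift v T l := by
  haveI := hex.2.1
  let F := Over.pullback T.hom
  have hex' := isExactSeq_bc T.hom hex
  let P' := Red.bc T.hom P
  let E' := Red.bc T.hom E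
  let v' : E' ⟶ P' := F.map v
  haveI : IsMonHom v' := hex'.2.1
  haveI : Smooth P'.hom := inferInstanceAs (Smooth (pullback.snd P.hom T.hom))
  haveI : QuasiCompact P'.hom := inferInstanceAs (QuasiCompact (pullback.snd P.hom T.hom))
  haveI : QuasiSeparated P'.hom := inferInstanceAs (QuasiSeparated (pullback.snd P.hom T.hom))
  haveI : GeometricallyConnected P'.hom := inferInstanceAs (GeometricallyConnected (pullback.snd P.hom T.hom))
  obtain ⟨a, ha⟩ := exists_action hex'
  obtain ⟨eC, hC⟩ := GenExtGrp.exists_constGrp_bc P'.hom eM hM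
  have he : (η : 𝟙_ _ ⟶ P').left ≫ P'.hom = 𝟙 T.left := Over.w (η : 𝟙_ _ ⟶ P')
  have he' : (η : 𝟙_ _ ⟶ E').left ≫ (Over.mk v'.left : Over P'.left).hom = (η : 𝟙_ _ ⟶ P').left :=
    congrArg (fun m : _ ⟶ P' => m.left) (IsMonHom.one_hom v')
  obtain ⟨g, hg⟩ : NonAbH1.HasSectionOver (Over.mk v'.left : Over P'.left) (𝟙 P'.left) := by
    refine ConstTorsTriv.hasSection_of_fibres P'.hom _ he eC a _ he' ha fun t => ?_
    let i := T.left.fromSpecResidueField t
    haveI : LocallyOfFiniteType (Red.bc i P').hom :=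
      inferInstanceAs (LocallyOfFiniteType (pullback.snd P'.hom i))
    haveI : ConnectedSpace (Red.bc i P').left := inferInstanceAs (ConnectedSpace (P'.hom.fiber t))
    obtain ⟨e₂, h₂⟩ := GenExtGrp.exists_constGrp_bc i eM hM
    obtain ⟨σ, -, hσ⟩ := FppfExtLib.exists_section (k := T.left.residueField t) h₂ hZ (isExactSeq_bc i hex')
    refine ⟨σ.left ≫ pullback.fst E'.hom i, ?_⟩
    show (σ.left ≫ pullback.fst E'.hom i) ≫ v'.left = pullback.fst P'.hom i
    have h3 : σ.left ≫ ((Over.pullback i).map v').left = 𝟙 _ := congrArg (fun m : _ ⟶ Red.bc i P' => m.left) hσ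
    have h4 : ((Over.pullback i).map v').left ≫ pullback.fst P'.hom i = pullback.fst E'.hom i ≫ v'.left :=
      pullback.lift_fst _ _ _
    rw [Category.assoc, ← h4, ← Category.assoc, h3, Category.id_comp]
  replace hg : g ≫ v'.left = 𝟙 P'.left := hg
  have h4 : v'.left ≫ pullback.fst P.hom T.hom = pullback.fst E.hom T.hom ≫ v.left := pullback.lift_fst _ _ _
  let m : (T ⊗ P).left ⟶ E.left := (pullbackSymmetry T.hom P.hom).hom ≫ g ≫ pullback.fst E.hom T.hom
  have hm : m ≫ v.left = (snd T P).left := by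
    show _ = pullback.snd T.hom P.hom
    simp only [m, Category.assoc]
    rw [← h4, reassoc_of% hg, pullbackSymmetry_hom_comp_fst]
  exact exists_isLift_of_exists (Over.homMk m (by
    rw [← Over.w v, reassoc_of% hm]; exact Over.w (snd T P))) (Over.OverMorphism.ext hm)

end Groth.Agent.TwLatticeExt
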